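import Groth.Agent.Lib.StalkLoc.Basic
import Groth.Prelude.Def_CohB1
import Mathlib.RingTheory.KrullDimension.Regular
import Mathlib.Topology.KrullDimension
import Mathlib.RingTheory.Ideal.MinimalPrime.Noetherian

/-!
# The support of a stalk and the points generalizing it
-/

set_option autoImplicit false
set_option linter.style.haveILetI false
universe u v

open CategoryTheory AlgebraicGeometry TopologicalSpace IsLocalRing
open scoped Pointwise

namespace Groth.Agent.Lib.IntSh43.StalkDim

open Groth.Agent.Lib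

/-- A strictly specialising family of points bounds the dimension of a subspace. -/
theorem krullDim_le_topologicalKrullDim {α : Type v} [TopologicalSpace α] [T0Space α] {S : Set α}
    {P : Type v} [PartialOrder P] (φ : P → α) (hS : ∀ p, φ p ∈ S) (hinj : Function.Injective φ)
    (hφ : ∀ p q, p ≤ q → φ p ⤳ φ q) : Order.krullDim P ≤ topologicalKrullDim ↥S := by
  rw [topologicalKrullDim, ← Order.krullDim_orderDual (α := P)]
  refine Order.krullDim_le_of_strictMono
    (fun p => (⟨closure {(⟨φ (OrderDual.ofDual p), hS _⟩ : S)}, isIrreducible_singleton.closure, isClosed_closure⟩ :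
      IrreducibleCloseds S)) fun p q h => ?_
  refine lt_of_le_of_ne (α := IrreducibleCloseds S) (specializes_iff_closure_subset.1
    ((subtype_specializes_iff _ _).2 (hφ _ _ h.le) : (⟨φ (OrderDual.ofDual q), hS _⟩ : S) ⤳ ⟨φ (OrderDual.ofDual p), hS _⟩))
    fun e => h.ne ?_
  have e' := Subtype.ext_iff.1 ((inseparable_iff_closure_eq.2 (congrArg IrreducibleCloseds.carrier e)).eq)
  exact congrArg OrderDual.toDual (hinj e')

variable {X : Scheme.{u}}

theorem fromSpecStalk_specializes (x : X) {p q : PrimeSpectrum (X.presheaf.stalk x)} (h : p ≤ q) :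
    (X.fromSpecStalk x).base p ⤳ (X.fromSpecStalk x).base q :=
  ((PrimeSpectrum.le_iff_specializes _ _).1 h).map (X.fromSpecStalk x).continuous

theorem fromSpecStalk_injective (x : X) : Function.Injective (X.fromSpecStalk x).base :=
  (X.fromSpecStalk x).isEmbedding.injective

theorem le_closedPoint {R : Type u} [CommRing R] [IsLocalRing R] (p : PrimeSpectrum R) : p ≤ closedPoint R :=
  IsLocalRing.le_maximalIdeal p.isPrime.ne_top

/-- The support of the stalk at `x` consists of the generalizations of `x` in the support. -/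
theorem mem_support_fromSpecStalk (M : X.Modules) [M.IsQuasicoherent] (x : X)
    (p : PrimeSpectrum (X.presheaf.stalk x)) :
    (X.fromSpecStalk x).base p ∈ CohB1.support M ↔
      p ∈ Module.support (X.presheaf.stalk x) (M.presheaf.stalk x) := by
  obtain ⟨U, hU, hxU, -⟩ := exists_isAffineOpen_mem_and_subset (x := x) (U := ⊤) trivial
  let z := (X.fromSpecStalk x).base p
  have hzU : z ∈ U := by
    have h := fromSpecStalk_specializes x (le_closedPoint p)
    rw [Scheme.fromSpecStalk_closedPoint] at h
    exact h.mem_open U.2 hxU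
  have hbas : ∀ f : Γ(X, U), z ∈ X.basicOpen f ↔ X.presheaf.germ U x hxU f ∉ p.asIdeal := fun f => by
    have e : z = hU.fromSpec.base (PrimeSpectrum.comap (X.presheaf.germ U x hxU).hom p) := by
      show (X.fromSpecStalk x).base p = _
      rw [← hU.fromSpecStalk_eq_fromSpecStalk hxU]; rfl
    have e2 : z ∈ X.basicOpen f ↔
        PrimeSpectrum.comap (X.presheaf.germ U x hxU).hom p ∈ hU.fromSpec ⁻¹ᵁ X.basicOpen f := by
      rw [e]; rfl
    rw [e2, hU.fromSpec_preimage_basicOpen]
    exact (PrimeSpectrum.mem_basicOpen _ _)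
  constructor
  · intro hz
    obtain ⟨v, hv⟩ : ∃ v : M.presheaf.stalk z, v ≠ 0 := by
      by_contra h
      push Not at h
      exact hz ⟨fun a b => (h a).trans (h b).symm⟩
    obtain ⟨f, t, hf, ht⟩ := StalkLoc.Basic.exists_smul_eq_germ hU hzU v
    have ht0 : M.presheaf.germ U z hzU t ≠ 0 := fun h => hv
      (((X.mem_basicOpen f z hzU).1 hf).smul_eq_zero.1 (ht.trans h))
    rw [Module.mem_support_iff']
    refine ⟨M.presheaf.germ U x hxU t, fun r hr h0 => ht0 ?_⟩
    letI := TopCat.Presheaf.algebra_section_stalk X.presheaf (⟨x, hxU⟩ : U)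
    haveI := hU.isLocalization_stalk ⟨x, hxU⟩
    obtain ⟨⟨a, s⟩, has⟩ := IsLocalization.surj (hU.primeIdealOf ⟨x, hxU⟩).asIdeal.primeCompl r
    have hs : IsUnit (X.presheaf.germ U x hxU s.1) := IsLocalization.map_units (X.presheaf.stalk x) s
    have has' : r * X.presheaf.germ U x hxU s.1 = X.presheaf.germ U x hxU a := has
    have h1 : M.presheaf.germ U x hxU (a • t) = 0 := by
      rw [Modules.StalkModule.germ_smul, ← has', mul_comm, mul_smul, h0, smul_zero]
    obtain ⟨g, hg, hgt⟩ := (StalkLoc.Basic.germ_eq_zero_iff hU hxU _).1 h1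
    refine (StalkLoc.Basic.germ_eq_zero_iff hU hzU t).2 ⟨g * a, (hbas _).2 ?_, by rw [mul_smul, hgt]⟩
    rw [map_mul, ← has']
    exact p.isPrime.mul_notMem (fun hh => p.isPrime.ne_top (Ideal.eq_top_of_isUnit_mem _ hh ((X.mem_basicOpen g x hxU).1 hg)))
      (p.isPrime.mul_notMem hr fun hh => p.isPrime.ne_top (Ideal.eq_top_of_isUnit_mem _ hh hs))
  · rw [Module.mem_support_iff']
    rintro ⟨m, hm⟩
    obtain ⟨f, t, hf, ht⟩ := StalkLoc.Basic.exists_smul_eq_germ hU hxU m
    intro hsub
    obtain ⟨g, hg, hgt⟩ := (StalkLoc.Basic.germ_eq_zero_iff hU hzU t).1 (@Subsingleton.elim _ hsub _ _)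
    refine hm (X.presheaf.germ U x hxU g * X.presheaf.germ U x hxU f) (p.isPrime.mul_notMem ((hbas g).1 hg)
      fun hh => p.isPrime.ne_top (Ideal.eq_top_of_isUnit_mem _ hh ((X.mem_basicOpen f x hxU).1 hf))) ?_
    rw [mul_smul, ht, ← Modules.StalkModule.germ_smul, hgt, map_zero]

/-- The dimension of the support of stalks strictly increases under specialization. -/
theorem supportDim_add_one_le (M : X.Modules) [M.IsQuasicoherent] {x' x : X} (h : x' ⤳ x) (hne : x' ≠ x)
    (hx : x ∈ CohB1.support M) :
    Module.supportDim (X.presheaf.stalk x') (M.presheaf.stalk x') + 1 ≤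
      Module.supportDim (X.presheaf.stalk x) (M.presheaf.stalk x) := by
  have hex : ∀ p : Module.support (X.presheaf.stalk x') (M.presheaf.stalk x'),
      ∃ q : PrimeSpectrum (X.presheaf.stalk x), (X.fromSpecStalk x).base q = (X.fromSpecStalk x').base p.1 := by
    intro p
    have h1 := fromSpecStalk_specializes x' (le_closedPoint p.1)
    rw [Scheme.fromSpecStalk_closedPoint] at h1
    exact (Scheme.range_fromSpecStalk (X := X) (x := x)).ge (h1.trans h)
  choose g hg using hex
  have hgm : ∀ p, g p ∈ Module.support (X.presheaf.stalk x) (M.presheaf.stalk x) := fun p => by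
    rw [← mem_support_fromSpecStalk, hg, mem_support_fromSpecStalk]; exact p.2
  have hc : closedPoint (X.presheaf.stalk x) ∈ Module.support (X.presheaf.stalk x) (M.presheaf.stalk x) := by
    rw [← mem_support_fromSpecStalk, Scheme.fromSpecStalk_closedPoint]; exact hx
  have hgle : ∀ p q, p ≤ q → g p ≤ g q := fun p q hpq => by
    rw [PrimeSpectrum.le_iff_specializes]
    refine (X.fromSpecStalk x).isEmbedding.isInducing.specializes_iff.1 ?_
    rw [hg, hg]
    exact fromSpecStalk_specializes x' hpq
  have hgs : StrictMono fun p => (⟨g p, hgm p⟩ : Module.support (X.presheaf.stalk x) (M.presheaf.stalk x)) :=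
    fun p q hpq => lt_of_le_of_ne (hgle p q hpq.le) fun e => hpq.ne (Subtype.ext
      (fromSpecStalk_injective x' (by rw [← hg, ← hg, show g p = g q from congrArg Subtype.val e])))
  have hlt : ∀ p, g p < closedPoint (X.presheaf.stalk x) := fun p => by
    refine lt_of_le_of_ne (le_closedPoint (g p)) fun e => hne ?_
    have h1 := fromSpecStalk_specializes x' (le_closedPoint p.1)
    rw [Scheme.fromSpecStalk_closedPoint, ← hg, e, Scheme.fromSpecStalk_closedPoint] at h1
    exact (h.antisymm h1).eq
  by_cases he : IsEmpty (Module.support (X.presheaf.stalk x') (M.presheaf.stalk x'))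
  · rw [Module.supportDim, Order.krullDim_eq_bot, WithBot.bot_add]
    exact bot_le
  rw [not_isEmpty_iff] at he
  rw [Module.supportDim, Order.krullDim_eq_iSup_length, Module.supportDim]
  refine le_trans (b := ((⨆ s : LTSeries (Module.support (X.presheaf.stalk x') (M.presheaf.stalk x')),
    (s.length : ℕ∞) + 1 : ℕ∞) : WithBot ℕ∞)) ?_ ?_
  · rw [← ENat.iSup_add]; rfl
  · haveI : Nonempty (Module.support (X.presheaf.stalk x) (M.presheaf.stalk x)) := ⟨⟨_, hc⟩⟩
    rw [Order.krullDim_eq_iSup_length]
    refine WithBot.coe_le_coe.2 (iSup_le fun s => ?_)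
    refine le_iSup_of_le ((s.map _ hgs).snoc ⟨_, hc⟩ (hlt _)) ?_
    simp

/-- Over a point of local dimension at most one, the dimension of the stalk exceeds that of the fibre by
at most one. -/
theorem supportDim_le_fibre {Y : Scheme.{u}} [IsLocallyNoetherian X] [IsLocallyNoetherian Y] (π : X ⟶ Y)
    (M : X.Modules) [M.IsQuasicoherent] (x : X) [Module.Finite (X.presheaf.stalk x) (M.presheaf.stalk x)]
    (hy : ringKrullDim (Y.presheaf.stalk (π.base x)) ≤ 1) :
    Module.supportDim (X.presheaf.stalk x) (M.presheaf.stalk x) ≤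
      topologicalKrullDim ↥(CohB1.support M ∩ π.base ⁻¹' {π.base x}) + 1 := by
  let A := Y.presheaf.stalk (π.base x)
  let R := X.presheaf.stalk x
  obtain ⟨a, ham, ha⟩ : ∃ a ∈ maximalIdeal A, ∀ P : Ideal A, P.IsPrime → a ∈ P → P = maximalIdeal A := by
    by_cases h0 : maximalIdeal A ∈ minimalPrimes A
    · exact ⟨0, zero_mem _, fun P hP _ => le_antisymm (le_maximalIdeal hP.ne_top)
        (h0.2 ⟨hP, bot_le⟩ (le_maximalIdeal hP.ne_top))⟩
    · have hsub : ¬ (maximalIdeal A : Set A) ⊆ ⋃ P ∈ minimalPrimes A, (P : Set A) := fun hs => by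
        obtain ⟨P, hP, hle⟩ := ((maximalIdeal A).subset_union_prime_finite (minimalPrimes.finite_of_isNoetherianRing A)
          (f := id) ⊤ ⊤ fun _ h _ _ => h.1.1).1 hs
        exact h0 (le_antisymm hle (le_maximalIdeal hP.1.1.ne_top) ▸ hP)
      obtain ⟨a, ham, ha⟩ := Set.not_subset.1 hsub
      refine ⟨a, ham, fun P hP haP => ?_⟩
      by_contra hne
      obtain ⟨Q, hQ, hQP⟩ := Ideal.exists_minimalPrimes_le (bot_le : (⊥ : Ideal A) ≤ P)
      have hQP' : Q < P := lt_of_le_of_ne hQP fun e => ha (Set.mem_biUnion hQ (e ▸ haP))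
      have hPm : P < maximalIdeal A := lt_of_le_of_ne (le_maximalIdeal hP.ne_top) hne
      let s : LTSeries (PrimeSpectrum A) :=
        ((RelSeries.singleton _ (⟨Q, hQ.1.1⟩ : PrimeSpectrum A)).snoc ⟨P, hP⟩ hQP').snoc
          (closedPoint A) (by rw [RelSeries.last_snoc]; exact hPm)
      have h2 := (Order.LTSeries.length_le_krullDim s).trans hy
      simp [s] at h2
  let a' : R := (π.stalkMap x).hom a
  have ha' : a' ∈ maximalIdeal R := map_nonunit (π.stalkMap x).hom a ham
  refine le_trans (Module.supportDim_le_supportDim_quotSMulTop_succ_of_mem_jacobson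
    ((Module.annihilator R (M.presheaf.stalk x)).ringJacobson_le_jacobson
      ((IsLocalRing.ringJacobson_eq_maximalIdeal R).ge ha'))) (add_le_add ?_ le_rfl)
  refine krullDim_le_topologicalKrullDim (fun p => (X.fromSpecStalk x).base p.1) (fun p => ?_)
    (fun p q e => Subtype.ext (fromSpecStalk_injective x e)) fun p q h => fromSpecStalk_specializes x h
  have hp := p.2
  simp only [Module.support_quotSMulTop, Set.mem_inter_iff, PrimeSpectrum.mem_zeroLocus,
    Set.singleton_subset_iff] at hp
  refine ⟨(mem_support_fromSpecStalk M x p.1).2 hp.1, ?_⟩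
  show π.base ((X.fromSpecStalk x).base p.1) = π.base x
  have e : PrimeSpectrum.comap (π.stalkMap x).hom p.1 = closedPoint A :=
    PrimeSpectrum.ext (ha _ (p.1.asIdeal.comap_isPrime _) hp.2)
  have h2 := congrArg (fun g => g.base p.1) (Scheme.SpecMap_stalkMap_fromSpecStalk π (x := x))
  rw [← Scheme.fromSpecStalk_closedPoint (X := Y) (x := π.base x)]
  exact h2.symm.trans (congrArg (Y.fromSpecStalk (π.base x)).base e)

end Groth.Agent.Lib.IntSh43.StalkDim
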