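import Groth.Agent.Lib.IntSh43.TopDiff
import Groth.Agent.Lib.IntSh43.StalkDim
import Groth.Agent.Lib.DerivedOX.TensorSheaf
import Groth.Agent.Lib.KVec.ExtRank
import Groth.Agent.Lib.KoszulSh.Sections
import Groth.Agent.Lib.Cyc.CH.BdlExists
import Groth.Agent.Lib.FittSheaf.Basic
import Groth.Agent.Lib.TensorMod.FPConv
import Groth.Agent.Lib.CohBasics.Closure
import Groth.Agent.Lib.Pinch.StalkFrame
import Groth.Agent.Lib.Modules.AffineHom
import Groth.Prelude.Def_DCoh4

/-!
# Dimension of the support along the zero scheme of an acyclic Koszul complex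
-/

set_option autoImplicit false
set_option linter.style.haveILetI false
universe u

open CategoryTheory CategoryTheory.Limits AlgebraicGeometry TopologicalSpace IsLocalRing
open scoped TensorProduct

namespace Groth.Agent.Lib.IntSh43.Acyclic

open Groth.Agent.Lib Groth.Agent.Lib.Modules

noncomputable section

variable {X : Scheme.{u}}

theorem finite_stalk_of_isCoh {F : X.Modules} (hF : Coh.IsCoh F) (x : X) :
    Module.Finite (X.presheaf.stalk x) (F.presheaf.stalk x) := by
  obtain ⟨U, hU, hx, -⟩ := exists_isAffineOpen_mem_and_subset (x := x) (U := ⊤) trivial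
  haveI := CohBasics.Closure.finite_sections hF hU
  haveI := hF.1
  exact FittSheaf.finite_stalk F hU hx

/-- The stalk of a rank `n` bundle is free on a frame. -/
theorem exists_stalk_equiv {M : X.Modules} {n : ℕ} (hM : FlatMod.IsFinLocFreeOfRank n M) (x : X) :
    Nonempty ((Fin n → X.presheaf.stalk x) ≃ₗ[X.presheaf.stalk x] M.presheaf.stalk x) := by
  obtain ⟨U, hxU, ⟨i⟩⟩ := hM x
  obtain ⟨e, he⟩ := Pinch.StalkFrame.exists_isFrame_of_iso i
  exact ⟨LinearEquiv.ofBijective
    (Fintype.linearCombination (X.presheaf.stalk x) fun k => M.presheaf.germ U x hxU (e k)) (by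
      rw [show ⇑(Fintype.linearCombination (X.presheaf.stalk x) fun k => M.presheaf.germ U x hxU (e k)) = _ from
        funext fun c => Fintype.linearCombination_apply _ _ c]
      exact he x hxU)⟩

variable {E : X.Modules} {s : E ⟶ Coh.structureModule X} (C : KoszSh.Cx E s) (F : X.Modules)

/-- Images of the Koszul differential lie in the ideal generated by the values of `s`. -/
theorem stalkMap_d_mem {x : X} (I : Ideal (X.presheaf.stalk x))
    [(C.K.X (0 : ℕ)).IsQuasicoherent]
    (hq : ∀ p, (C.K.X p).IsQuasicoherent)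
    (hs : ∀ (U : X.affineOpens) (hx : x ∈ U.1) (e : Γ(E, U.1)),
      X.presheaf.germ U.1 x hx (KoszSh.secForm s U.1 e) ∈ I)
    (p : ℕ) (v : (C.K.X (p + 1)).presheaf.stalk x) :
    StalkModule.stalkMapₗ (C.K.d (p + 1) p) x v ∈
      I • (⊤ : Submodule (X.presheaf.stalk x) ((C.K.X p).presheaf.stalk x)) := by
  haveI := hq (p + 1)
  obtain ⟨U, hU, hxU, -⟩ := exists_isAffineOpen_mem_and_subset (x := x) (U := ⊤) trivial
  let A : X.affineOpens := ⟨U, hU⟩
  obtain ⟨f, t, hf, ht⟩ := StalkLoc.Basic.exists_smul_eq_germ hU hxU v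
  have hfu := (X.mem_basicOpen f x hxU).1 hf
  rw [← Submodule.smul_mem_iff_of_isUnit (p := I • (⊤ : Submodule (X.presheaf.stalk x) ((C.K.X p).presheaf.stalk x))) hfu, ← map_smul, ht,
    StalkModule.stalkMapₗ_germ]
  obtain ⟨w, rfl⟩ := (C.loc (p + 1) A).symm.surjective t
  clear ht
  have hw : w ∈ Submodule.span Γ(X, U) (Set.range (exteriorPower.ιMulti Γ(X, U) (p + 1) (M := Γ(E, U)))) := by
    rw [exteriorPower.ιMulti_span]; trivial
  induction hw using Submodule.span_induction with
  | mem w hw =>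
    obtain ⟨e, rfl⟩ := hw
    rw [show (C.K.d (p + 1) p).app U ((C.loc (p + 1) A).symm (exteriorPower.ιMulti _ (p + 1) e)) = _ from
      C.rule p A e, KoszSh.dGen, map_sum, map_sum]
    refine Submodule.sum_mem _ fun i _ => ?_
    rw [map_smul, StalkModule.germ_smul hxU, map_mul]
    exact Submodule.smul_mem_smul (Ideal.mul_mem_left _ _ (hs A hxU _)) trivial
  | zero => simp
  | add a b _ _ ha hb => simp only [map_add]; exact Submodule.add_mem _ ha hb
  | smul r a _ ha =>
    rw [map_smul, Scheme.Modules.Hom.app_smul, StalkModule.germ_smul]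
    exact Submodule.smul_mem _ _ ha

/-- Exactness of `F ⊗ K` in positive degrees on stalks. -/
theorem exact_lTensor {q : ℕ}
    (h : IsZero (((((DCoh.tensorBi (X := X)).obj F).mapHomologicalComplex (ComplexShape.down ℕ)).obj C.K).homology (q + 1)))
    (x : X) :
    Function.Exact ((StalkModule.stalkMapₗ (C.K.d (q + 2) (q + 1)) x).lTensor (F.presheaf.stalk x))
      ((StalkModule.stalkMapₗ (C.K.d (q + 1) q) x).lTensor (F.presheaf.stalk x)) := by
  let G := (DCoh.tensorBi (X := X)).obj F
  let K' := (G.mapHomologicalComplex (ComplexShape.down ℕ)).obj C.K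
  rw [← HomologicalComplex.exactAt_iff_isZero_homology,
    K'.exactAt_iff' (q + 2) (q + 1) q (by simp) (by simp), Stalk.exact_iff_stalk] at h
  have h2 := (ShortComplex.ab_exact_iff_function_exact _).1 (h x)
  have nat : ∀ (i j : ℕ) (w : (K'.X i).presheaf.stalk x),
      DerivedOX.TensorSheaf.tensorStalk x F (C.K.X j) (StalkModule.stalkMapₗ (K'.d i j) x w) =
        (StalkModule.stalkMapₗ (C.K.d i j) x).lTensor (F.presheaf.stalk x)
          (DerivedOX.TensorSheaf.tensorStalk x F (C.K.X i) w) := fun i j w => by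
    have := DerivedOX.TensorSheaf.tensorStalk_natural x (𝟙 F) (C.K.d i j) w
    rw [CategoryTheory.Functor.map_id, NatTrans.id_app, Category.id_comp, StalkModule.stalkMapₗ_id] at this
    exact this
  intro v
  obtain ⟨w, rfl⟩ := (DerivedOX.TensorSheaf.tensorStalk x F (C.K.X (q + 1))).surjective v
  rw [← nat, LinearEquiv.map_eq_zero_iff]
  refine (h2 w).trans ⟨fun ⟨u, hu⟩ => ?_, fun ⟨u, hu⟩ => ?_⟩
  · refine ⟨DerivedOX.TensorSheaf.tensorStalk x F (C.K.X (q + 2)) u, ?_⟩
    rw [← nat]
    exact congrArg _ hu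
  · obtain ⟨u, rfl⟩ := (DerivedOX.TensorSheaf.tensorStalk x F (C.K.X (q + 2))).surjective u
    rw [← nat] at hu
    exact ⟨u, (DerivedOX.TensorSheaf.tensorStalk x F (C.K.X (q + 1))).injective hu⟩

/-- At a point of the zero locus, all values of `s` vanish. -/
theorem germ_secForm_mem {x : X} [(C.K.X 0).IsQuasicoherent]
    (hx : x ∈ CohB1.support (cokernel (((DCoh.tensorBi (X := X)).obj F).map (C.K.d 1 0))))
    (U : X.affineOpens) (hxU : x ∈ U.1) (e : Γ(E, U.1)) :
    X.presheaf.germ U.1 x hxU (KoszSh.secForm s U.1 e) ∈ maximalIdeal (X.presheaf.stalk x) := by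
  by_contra hu
  rw [IsLocalRing.mem_maximalIdeal, mem_nonunits_iff, not_not] at hu
  have hd : Function.Surjective (StalkModule.stalkMapₗ (C.K.d 1 0) x) := by
    intro v
    obtain ⟨f, t, hf, ht⟩ := StalkLoc.Basic.exists_smul_eq_germ U.2 hxU v
    obtain ⟨a, ha⟩ := ((X.mem_basicOpen f x hxU).1 hf).exists_left_inv
    obtain ⟨b, hb⟩ := hu.exists_left_inv
    have hdec : t = exteriorPower.zeroEquiv _ _ (C.loc 0 U t) •
        (C.loc 0 U).symm (exteriorPower.ιMulti _ 0 Fin.elim0) := (C.loc 0 U).injective (by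
      rw [map_smul, LinearEquiv.apply_symm_apply]
      apply (exteriorPower.zeroEquiv Γ(X, U.1) Γ(E, U.1)).injective
      rw [map_smul, exteriorPower.zeroEquiv_ιMulti, smul_eq_mul, mul_one])
    refine ⟨(a * b * X.presheaf.germ U.1 x hxU (exteriorPower.zeroEquiv _ _ (C.loc 0 U t))) •
      (C.K.X 1).presheaf.germ U.1 x hxU ((C.loc 1 U).symm (exteriorPower.ιMulti _ 1 fun _ => e)), ?_⟩
    have hd0 : (C.K.d 1 0).app U.1 ((C.loc 1 U).symm (exteriorPower.ιMulti _ 1 fun _ => e)) =
        KoszSh.secForm s U.1 e • (C.loc 0 U).symm (exteriorPower.ιMulti _ 0 Fin.elim0) := by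
      refine (C.rule 0 U _).trans ?_
      refine Eq.trans (congrArg (C.loc 0 U).symm ?_) ((C.loc 0 U).symm.map_smul _ _)
      rw [KoszSh.dGen, Fin.sum_univ_one]
      simp only [Fin.val_zero, pow_zero, one_mul]
      exact congrArg _ (congrArg _ (funext fun j => j.elim0))
    conv_rhs => rw [← one_smul (X.presheaf.stalk x) v, ← ha, mul_smul, ht, hdec, StalkModule.germ_smul]
    rw [map_smul, StalkModule.stalkMapₗ_germ, hd0, StalkModule.germ_smul, smul_smul, smul_smul]
    congr 1
    rw [mul_right_comm (a * b), mul_assoc a b, hb, mul_one]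
  have hsurj := LinearMap.lTensor_surjective (F.presheaf.stalk x) hd
  let G := (DCoh.tensorBi (X := X)).obj F
  let g := G.map (C.K.d 1 0)
  have nat : ∀ w, DerivedOX.TensorSheaf.tensorStalk x F (C.K.X 0) (StalkModule.stalkMapₗ g x w) =
      (StalkModule.stalkMapₗ (C.K.d 1 0) x).lTensor (F.presheaf.stalk x)
        (DerivedOX.TensorSheaf.tensorStalk x F (C.K.X 1) w) := fun w => by
    have := DerivedOX.TensorSheaf.tensorStalk_natural x (𝟙 F) (C.K.d 1 0) w
    rw [CategoryTheory.Functor.map_id, NatTrans.id_app, Category.id_comp, StalkModule.stalkMapₗ_id] at this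
    exact this
  have hz : ∀ v : (cokernel g).presheaf.stalk x, v = 0 := fun v => by
    obtain ⟨u, rfl⟩ := (Stalk.epi_iff_stalk_surjective (cokernel.π g)).1 inferInstance x v
    obtain ⟨w, hw⟩ := hsurj (DerivedOX.TensorSheaf.tensorStalk x F (C.K.X 0) u)
    obtain ⟨w, rfl⟩ := (DerivedOX.TensorSheaf.tensorStalk x F (C.K.X 1)).surjective w
    rw [← nat] at hw
    rw [← (DerivedOX.TensorSheaf.tensorStalk x F (C.K.X 0)).injective hw]
    change StalkModule.stalkMapₗ (cokernel.π g) x (StalkModule.stalkMapₗ g x w) = 0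
    rw [← LinearMap.comp_apply, ← StalkModule.stalkMapₗ_comp, cokernel.condition]
    exact (DFunLike.congr_fun (StalkModule.stalkMapₗ_zero (M := G.obj (C.K.X 1)) x) w)
  exact hx ⟨fun a b => (hz a).trans (hz b).symm⟩

/-- The support of `F` has dimension at least `d + 1` along the zero locus of an acyclic Koszul complex of
a bundle of rank `d + 1`. -/
theorem succ_le_supportDim [IsLocallyNoetherian X] {d : ℕ} (hE : FlatMod.IsFinLocFreeOfRank (d + 1) E)
    (hF : Coh.IsCoh F)
    (hreg : ∀ q : ℕ, 1 ≤ q →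
      IsZero (((((DCoh.tensorBi (X := X)).obj F).mapHomologicalComplex (ComplexShape.down ℕ)).obj C.K).homology q))
    {x : X} (hx : x ∈ CohB1.support (cokernel (((DCoh.tensorBi (X := X)).obj F).map (C.K.d 1 0))))
    (hxF : x ∈ CohB1.support F) :
    ((d + 1 : ℕ) : WithBot ℕ∞) ≤ Module.supportDim (X.presheaf.stalk x) (F.presheaf.stalk x) := by
  have hr := fun p => KVec.ExtRank.rank_extPow hE (C.isExtPow p)
  have hqc : ∀ p, (C.K.X p).IsQuasicoherent := fun p =>
    AffineSections.isQCoh_of_isFinLocFree (TensorMod.LocFree.of_rank (hr p))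
  haveI := hqc 0
  haveI := finite_stalk_of_isCoh hF x
  haveI : Nontrivial (F.presheaf.stalk x) := not_subsingleton_iff_nontrivial.1 hxF
  have e := fun p => (exists_stalk_equiv (hr p) x).some
  haveI : ∀ p, Module.Flat (X.presheaf.stalk x) ((C.K.X p).presheaf.stalk x) := fun p =>
    Module.Flat.of_linearEquiv (e p).symm
  haveI : ∀ p, Module.Finite (X.presheaf.stalk x) ((C.K.X p).presheaf.stalk x) := fun p =>
    Module.Finite.equiv (e p)
  refine TopDiff.le_supportDim d (F.presheaf.stalk x) (fun p => (C.K.X p).presheaf.stalk x)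
    (fun p => StalkModule.stalkMapₗ (C.K.d (p + 1) p) x) ?_ ?_ ?_ fun i hi => exact_lTensor C F (hreg _ (by omega)) x
  · haveI : NeZero ((d + 1).choose (d + 1)) := ⟨by simp⟩
    exact (e (d + 1)).injective.nontrivial
  · exact stalkMap_d_mem C _ hqc (germ_secForm_mem C F hx) d
  · have h := exact_lTensor C F (hreg (d + 1) (by omega)) x
    haveI : Subsingleton ((C.K.X (d + 2)).presheaf.stalk x) := by
      rw [(e (d + 2)).symm.toEquiv.subsingleton_congr, Nat.choose_eq_zero_of_lt (by omega)]
      infer_instance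
    rw [injective_iff_map_eq_zero]
    intro v hv
    obtain ⟨u, rfl⟩ := (h v).1 hv
    rw [Subsingleton.elim u 0, map_zero]

end

end Groth.Agent.Lib.IntSh43.Acyclic
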