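import Groth.Agent.Lib.KVec.ExtRank
import Groth.Agent.Lib.KVec.ZeroScheme
import Groth.Agent.Lib.NormAmple.Bundle
import Groth.Agent.Lib.Modules.BasisHom
import Groth.Agent.Lib.Modules.TensorGen
import Groth.Agent.Lib.FundLocal.ExtPowExists
import Groth.Agent.Lib.ResDescend36.Proj
import Groth.Agent.Lib.KAugNil98.Main
import Groth.Agent.Lib.NormAmple.FinFreeMain
import Mathlib.LinearAlgebra.Determinant
import Mathlib.LinearAlgebra.ExteriorPower.Basis

/-!
# The determinant of the push-forward of an inverse pair along a finite locally free morphism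
-/

set_option autoImplicit false
set_option linter.style.haveILetI false
set_option maxHeartbeats 1000000
universe u

open CategoryTheory CategoryTheory.Limits AlgebraicGeometry TopologicalSpace Opposite

namespace Groth.Agent.Lib.IntSh43.DetNorm

open Groth.Agent.Lib Groth.Agent.Lib.Modules
open Groth.Agent.Lib.TensorMod.Dual (rs rf rs_rs rs_self rs_smul rf_rf)
open Groth.Agent.Lib.TensorMod.Gen (IsGen)

noncomputable section

/-- A linear endomorphism acts on the top exterior power by its determinant. -/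
theorem map_top {R : Type*} [CommRing R] {M : Type*} [AddCommGroup M] [Module R M] {n : ℕ}
    (b : Module.Basis (Fin n) R M) (f : M →ₗ[R] M) (x : ⋀[R]^n M) :
    exteriorPower.map n f x = LinearMap.det f • x := by
  let B := b.exteriorPower n
  have key : ∀ v : Fin n → M, exteriorPower.ιMulti R n (f ∘ v) = LinearMap.det f • exteriorPower.ιMulti R n v := by
    intro v
    refine B.repr.injective (Finsupp.ext fun i => ?_)
    let a : M [⋀^Fin n]→ₗ[R] R := ((B.coord i).compAlternatingMap (exteriorPower.ιMulti R n))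
    show a (f ∘ v) = B.coord i (LinearMap.det f • exteriorPower.ιMulti R n v)
    rw [map_smul]
    show a (f ∘ v) = LinearMap.det f • a v
    rw [a.eq_smul_basis_det b]
    simp only [AlternatingMap.smul_apply, smul_eq_mul, Module.Basis.det_comp]
    ring
  have : exteriorPower.map n f = LinearMap.det f • LinearMap.id := by
    refine exteriorPower.linearMap_ext (AlternatingMap.ext fun v => ?_)
    show exteriorPower.map n f (exteriorPower.ιMulti R n v) = LinearMap.det f • exteriorPower.ιMulti R n v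
    rw [exteriorPower.map_apply_ιMulti]
    exact key v
  rw [this]; rfl

variable {X Y : Scheme.{u}}

/-- Sections of a biproduct. -/
def prodSec (A B : Y.Modules) (V : Y.Opens) : Γ(A ⊞ B, V) ≃ₗ[Γ(Y, V)] Γ(A, V) × Γ(B, V) where
  toFun x := ((biprod.fst : A ⊞ B ⟶ A).app V x, (biprod.snd : A ⊞ B ⟶ B).app V x)
  map_add' x y := by simp only [map_add]; rfl
  map_smul' r x := by simp only [Scheme.Modules.Hom.app_smul]; rfl
  invFun p := (biprod.inl : A ⟶ A ⊞ B).app V p.1 + (biprod.inr : B ⟶ A ⊞ B).app V p.2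
  left_inv x := congrArg (fun k : A ⊞ B ⟶ A ⊞ B => k.app V x) (biprod.total : _ = 𝟙 (A ⊞ B))
  right_inv p := by
    refine Prod.ext ?_ ?_
    · show (biprod.fst : A ⊞ B ⟶ A).app V _ = p.1
      rw [map_add]
      show ((biprod.inl : A ⟶ A ⊞ B) ≫ biprod.fst).app V p.1 + ((biprod.inr : B ⟶ A ⊞ B) ≫ biprod.fst).app V p.2 = p.1
      rw [biprod.inl_fst, biprod.inr_fst]
      exact add_zero _
    · show (biprod.snd : A ⊞ B ⟶ B).app V _ = p.2
      rw [map_add]
      show ((biprod.inl : A ⟶ A ⊞ B) ≫ biprod.snd).app V p.1 + ((biprod.inr : B ⟶ A ⊞ B) ≫ biprod.snd).app V p.2 = p.2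
      rw [biprod.inl_snd, biprod.inr_snd]
      exact zero_add _

variable (π : X ⟶ Y)

/-- `π_* O`. -/
abbrev pO : Y.Modules := (Scheme.Modules.pushforward π).obj (Coh.structureModule X)

/-- `a ↦ a • l` on sections of push-forwards. -/
def smulSec {L : X.Modules} (V : Y.Opens) (l : Γ(L, π ⁻¹ᵁ V)) :
    Γ((pO π), V) →ₗ[Γ(Y, V)] Γ((Scheme.Modules.pushforward π).obj L, V) where
  toFun a := (show Γ((Scheme.Modules.pushforward π).obj L, V) from OmegaSh.fnSect X (π ⁻¹ᵁ V) a • l)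
  map_add' a b := by
    show (OmegaSh.fnSect X (π ⁻¹ᵁ V) a + OmegaSh.fnSect X (π ⁻¹ᵁ V) b) • l = _
    rw [add_smul]; rfl
  map_smul' r a := by
    show (π.app V r * OmegaSh.fnSect X (π ⁻¹ᵁ V) a) • l = π.app V r • (OmegaSh.fnSect X (π ⁻¹ᵁ V) a • l)
    rw [mul_smul]

theorem bijective_smulSec {L : X.Modules} {V : Y.Opens} {l : Γ(L, π ⁻¹ᵁ V)} (hl : IsGen L (π ⁻¹ᵁ V) l) :
    Function.Bijective (smulSec π V l) := by
  have h := hl _ le_rfl
  simp only [rs_self] at h
  exact h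

theorem rs_smulSec {L : X.Modules} {U V : Y.Opens} (h : V ≤ U) (l : Γ(L, π ⁻¹ᵁ U)) (a : Γ((pO π), U)) :
    rs ((Scheme.Modules.pushforward π).obj L) h (smulSec π U l a) =
      smulSec π V (rs L (π.preimage_mono h) l) (rs (pO π) h a) :=
  rs_smul L (π.preimage_mono h) _ l

/-- Multiplication by a function on the sections of `π_* O`. -/
def mulSec (V : Y.Opens) (u : Γ(X, π ⁻¹ᵁ V)) : Γ((pO π), V) →ₗ[Γ(Y, V)] Γ((pO π), V) :=
  smulSec π V (OmegaSh.strSect X (π ⁻¹ᵁ V) u)

theorem smulSec_mulSec {L : X.Modules} (V : Y.Opens) (u : Γ(X, π ⁻¹ᵁ V)) (l : Γ(L, π ⁻¹ᵁ V)) :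
    (smulSec π V l).comp (mulSec π V u) = smulSec π V (u • l) :=
  LinearMap.ext fun a => by
    show (OmegaSh.fnSect X (π ⁻¹ᵁ V) a * u) • l = OmegaSh.fnSect X (π ⁻¹ᵁ V) a • (u • l)
    rw [mul_smul]

theorem mulSec_one (V : Y.Opens) : mulSec π V 1 = LinearMap.id :=
  LinearMap.ext fun a => mul_one (OmegaSh.fnSect X (π ⁻¹ᵁ V) a)

/-- The change of trivializations. -/
def pairMap {L M : X.Modules} (V : Y.Opens) (l : Γ(L, π ⁻¹ᵁ V)) (m : Γ(M, π ⁻¹ᵁ V)) :
    Γ((pO π) ⊞ (pO π), V) →ₗ[Γ(Y, V)]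
      Γ((Scheme.Modules.pushforward π).obj L ⊞ (Scheme.Modules.pushforward π).obj M, V) :=
  (prodSec _ _ V).symm.toLinearMap ∘ₗ ((smulSec π V l).prodMap (smulSec π V m)) ∘ₗ (prodSec _ _ V).toLinearMap

theorem bijective_pairMap {L M : X.Modules} {V : Y.Opens} {l : Γ(L, π ⁻¹ᵁ V)} {m : Γ(M, π ⁻¹ᵁ V)}
    (hl : IsGen L (π ⁻¹ᵁ V) l) (hm : IsGen M (π ⁻¹ᵁ V) m) : Function.Bijective (pairMap π V l m) :=
  ((prodSec _ _ V).symm.bijective.comp ((bijective_smulSec π hl).prodMap (bijective_smulSec π hm))).comp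
    (prodSec _ _ V).bijective

theorem rs_pairMap {L M : X.Modules} {U V : Y.Opens} (h : V ≤ U) (l : Γ(L, π ⁻¹ᵁ U)) (m : Γ(M, π ⁻¹ᵁ U))
    (z : Γ((pO π) ⊞ (pO π), U)) :
    rs _ h (pairMap π U l m z) =
      pairMap π V (rs L (π.preimage_mono h) l) (rs M (π.preimage_mono h) m) (rs _ h z) := by
  let A := (Scheme.Modules.pushforward π).obj L
  let B := (Scheme.Modules.pushforward π).obj M
  show rs (A ⊞ B) h ((biprod.inl : A ⟶ A ⊞ B).app U (smulSec π U l ((biprod.fst : (pO π) ⊞ (pO π) ⟶ (pO π)).app U z)) +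
      (biprod.inr : B ⟶ A ⊞ B).app U (smulSec π U m ((biprod.snd : (pO π) ⊞ (pO π) ⟶ (pO π)).app U z))) =
    (biprod.inl : A ⟶ A ⊞ B).app V (smulSec π V _ ((biprod.fst : (pO π) ⊞ (pO π) ⟶ (pO π)).app V (rs _ h z))) +
      (biprod.inr : B ⟶ A ⊞ B).app V (smulSec π V _ ((biprod.snd : (pO π) ⊞ (pO π) ⟶ (pO π)).app V (rs _ h z)))
  rw [TensorSec.rs_add, ← TensorSec.app_rs, ← TensorSec.app_rs, rs_smulSec π h, rs_smulSec π h,
    ← TensorSec.app_rs, ← TensorSec.app_rs]

variable {L M : X.Modules} (θ : CohB1.tensorMod L M ≅ Coh.structureModule X)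

/-- The pairing. -/
def pairing (U : X.Opens) (l : Γ(L, U)) (m : Γ(M, U)) : Γ(X, U) :=
  OmegaSh.fnSect X U (θ.hom.app U (SecTwist.tmul L M U l m))

theorem pairing_smul (U : X.Opens) (r r' : Γ(X, U)) (l : Γ(L, U)) (m : Γ(M, U)) :
    pairing θ U (r • l) (r' • m) = r * r' * pairing θ U l m := by
  have h : SecTwist.tmul L M U (r • l) (r' • m) =
      ((r * r') • SecTwist.tmul L M U l m : Γ(CohB1.tensorMod L M, U)) := by
    rw [← Ample.GenLocus.pairM_id, ← Ample.GenLocus.pairM_id, TensorMod.Pullback.pairM_smul_left,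
      TensorMod.Pullback.pairM_smul_right, smul_smul]
    rfl
  show OmegaSh.fnSect X U (θ.hom.app U (SecTwist.tmul L M U (r • l) (r' • m))) = _
  rw [h]
  exact congrArg (OmegaSh.fnSect X U) (θ.hom.app_smul _ _)

theorem rs_pairing {U V : X.Opens} (h : V ≤ U) (l : Γ(L, U)) (m : Γ(M, U)) :
    pairing θ V (rs L h l) (rs M h m) = rf h (pairing θ U l m) := by
  show OmegaSh.fnSect X V (θ.hom.app V (SecTwist.tmul L M V (rs L h l) (rs M h m))) = _
  rw [← Ample.GenLocus.rs_tmul, TensorSec.app_rs]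
  rfl

/-- Frames of `L` and `M` pairing to one. -/
def IsPair (V : Y.Opens) (l : Γ(L, π ⁻¹ᵁ V)) (m : Γ(M, π ⁻¹ᵁ V)) : Prop :=
  IsGen L (π ⁻¹ᵁ V) l ∧ IsGen M (π ⁻¹ᵁ V) m ∧ pairing θ (π ⁻¹ᵁ V) l m = 1

theorem IsPair.res {U V : Y.Opens} {l : Γ(L, π ⁻¹ᵁ U)} {m : Γ(M, π ⁻¹ᵁ U)} (h : IsPair π θ U l m)
    (hV : V ≤ U) : IsPair π θ V (rs L (π.preimage_mono hV) l) (rs M (π.preimage_mono hV) m) :=
  ⟨h.1.res _, h.2.1.res _, by rw [rs_pairing, h.2.2]; exact map_one _⟩

/-- Two normalized pairs of frames induce the same map of determinants. -/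
theorem map_pairMap_eq {n r : ℕ} (hn : r + r = n) {V : Y.Opens}
    (b : Module.Basis (Fin r) Γ(Y, V) Γ((pO π), V))
    {l l' : Γ(L, π ⁻¹ᵁ V)} {m m' : Γ(M, π ⁻¹ᵁ V)} (h : IsPair π θ V l m) (h' : IsPair π θ V l' m') :
    exteriorPower.map n (pairMap π V l' m') = exteriorPower.map n (pairMap π V l m) := by
  obtain ⟨u, hu⟩ := (h.1 _ le_rfl).2 l'
  obtain ⟨v, hv⟩ := (h.2.1 _ le_rfl).2 m'
  simp only [rs_self] at hu hv
  have huv : u * v = 1 := by
    have := h'.2.2
    rw [← hu, ← hv, pairing_smul, h.2.2, mul_one] at this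
    exact this
  let A : Γ((pO π) ⊞ (pO π), V) →ₗ[Γ(Y, V)] Γ((pO π) ⊞ (pO π), V) :=
    (prodSec _ _ V).symm.toLinearMap ∘ₗ ((mulSec π V u).prodMap (mulSec π V v)) ∘ₗ (prodSec _ _ V).toLinearMap
  have hA : pairMap π V l' m' = pairMap π V l m ∘ₗ A := by
    refine LinearMap.ext fun z => ?_
    simp only [pairMap, A, LinearMap.comp_apply, LinearEquiv.coe_coe, LinearEquiv.apply_symm_apply]
    rw [← hu, ← hv, ← smulSec_mulSec, ← smulSec_mulSec]
    rfl
  haveI := Module.Free.of_basis b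
  haveI := Module.Finite.of_basis b
  have hdet : LinearMap.det A = 1 := by
    rw [show A = ((prodSec (pO π) (pO π) V).symm : _ →ₗ[Γ(Y, V)] _) ∘ₗ ((mulSec π V u).prodMap (mulSec π V v)) ∘ₗ
      ((prodSec (pO π) (pO π) V).symm.symm : _ →ₗ[Γ(Y, V)] _) from rfl, LinearMap.det_conj, LinearMap.det_prodMap,
      ← LinearMap.det_comp, show (mulSec π V u).comp (mulSec π V v) = smulSec π V (v • OmegaSh.strSect X _ u) from
        smulSec_mulSec π V v _]
    have : (v • OmegaSh.strSect X (π ⁻¹ᵁ V) u : Γ(Coh.structureModule X, π ⁻¹ᵁ V)) =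
        OmegaSh.strSect X (π ⁻¹ᵁ V) 1 := by
      rw [← huv, mul_comm]; rfl
    rw [this]
    show LinearMap.det (mulSec π V 1) = 1
    rw [mulSec_one, LinearMap.det_id]
  rw [hA, exteriorPower.map_comp]
  refine LinearMap.ext fun x => ?_
  rw [LinearMap.comp_apply,
    map_top (((b.prod b).reindex (finSumFinEquiv.trans (finCongr hn))).map (prodSec (pO π) (pO π) V).symm) A x,
    hdet, one_smul]

/-- The affine opens where everything is trivialized. -/
def Good (r : ℕ) (V : Y.affineOpens) : Prop :=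
  (∃ l m, IsPair π θ V.1 l m) ∧ Nonempty (Module.Basis (Fin r) Γ(Y, V.1) Γ((pO π), V.1))

theorem exists_good [IsNoetherian Y] [IsFinite π] (hL : PicF.IsInvertible L) (hM : PicF.IsInvertible M) {r : ℕ}
    (hO : FlatMod.IsFinLocFreeOfRank r (pO π)) {O : Y.Opens} {y : Y} (hy : y ∈ O) :
    ∃ U : Y.affineOpens, Good π θ r U ∧ U.1 ≤ O ∧ y ∈ U.1 := by
  obtain ⟨W, e, hyW, he⟩ := NormAmple.Bundle.exists_frame_fibre (π := π) hL y
  obtain ⟨W', e', hyW', he'⟩ := NormAmple.Bundle.exists_frame_fibre (π := π) hM y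
  obtain ⟨U, hUO, hyU, hb⟩ := KVec.ZeroScheme.exists_basis_nhd (E := (pO π)) hO
    (show y ∈ O ⊓ (W ⊓ W') from ⟨hy, hyW, hyW'⟩)
  let l := rs L (π.preimage_mono (hUO.trans (inf_le_right.trans inf_le_left))) e
  let m := rs M (π.preimage_mono (hUO.trans (inf_le_right.trans inf_le_right))) e'
  have hl : IsGen L (π ⁻¹ᵁ U.1) l := he.res _
  have hm : IsGen M (π ⁻¹ᵁ U.1) m := he'.res _
  obtain ⟨c, hc⟩ : ∃ c, c * pairing θ (π ⁻¹ᵁ U.1) l m = 1 := by
    obtain ⟨c, hc⟩ := (Ample.GenLocus.isGen_tmul hl hm _ le_rfl).2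
      (θ.inv.app _ (OmegaSh.strSect X (π ⁻¹ᵁ U.1) 1))
    simp only [rs_self] at hc
    refine ⟨c, ?_⟩
    have h2 := congrArg (θ.hom.app (π ⁻¹ᵁ U.1)) hc
    rw [Scheme.Modules.Hom.app_smul] at h2
    have h3 := congrArg (fun k : Coh.structureModule X ⟶ Coh.structureModule X =>
      k.app (π ⁻¹ᵁ U.1) (OmegaSh.strSect X (π ⁻¹ᵁ U.1) 1)) θ.inv_hom_id
    have h4 := congrArg (OmegaSh.fnSect X (π ⁻¹ᵁ U.1)) (h2.trans h3)
    exact h4
  refine ⟨U, ⟨⟨c • l, m, ?_, hm, ?_⟩, hb U le_rfl⟩, hUO.trans inf_le_left, hyU⟩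
  · intro W hW
    have hu : IsUnit (rf hW c) := (IsUnit.of_mul_eq_one _ hc).map _
    simp only [rs_smul, smul_smul]
    exact (hl W hW).comp hu.unit.mulRight.bijective
  · rw [show m = (1 : Γ(X, π ⁻¹ᵁ U.1)) • m from (one_smul _ _).symm, pairing_smul, mul_one, hc]

include θ in
/-- `det (π_* O ⊕ π_* O) ≅ det (π_* L ⊕ π_* M)`. -/
theorem nonempty_iso [IsNoetherian Y] [IsFinite π] (hL : PicF.IsInvertible L) (hM : PicF.IsInvertible M) {r n : ℕ}
    (hn : r + r = n) (hO : FlatMod.IsFinLocFreeOfRank r (pO π)) {D D' : Y.Modules}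
    (hD : ExtPow.IsExtPow n ((pO π) ⊞ (pO π)) D)
    (hD' : ExtPow.IsExtPow n ((Scheme.Modules.pushforward π).obj L ⊞ (Scheme.Modules.pushforward π).obj M) D')
     :
    Nonempty (D ≅ D') := by
  obtain ⟨α, hα⟩ := hD
  obtain ⟨β, hβ⟩ := hD'
  let φ : ∀ U : Y.affineOpens, Good π θ r U → Γ(D, U.1) →ₗ[Γ(Y, U.1)] Γ(D', U.1) := fun U hU =>
    (β U).symm.toLinearMap ∘ₗ exteriorPower.map n (pairMap π U.1 hU.1.choose hU.1.choose_spec.choose) ∘ₗ
      (α U).toLinearMap
  have hφ : ∀ (U V : Y.affineOpens) (hU : Good π θ r U) (hV : Good π θ r V) (h : V.1 ≤ U.1) (x : Γ(D, U.1)),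
      rs D' h (φ U hU x) = φ V hV (rs D h x) := by
    have hind : ∀ (U : Y.affineOpens) {P : Γ(D, U.1) → Prop}, P 0 → (∀ a c, P a → P c → P (a + c)) →
        (∀ (c : Γ(Y, U.1)) a, P a → P (c • a)) →
        (∀ z, P ((α U).symm (exteriorPower.ιMulti _ n z))) → ∀ x, P x := by
      intro U P h0 ha hs hg x
      obtain ⟨w, rfl⟩ := (α U).symm.surjective x
      have hw : w ∈ Submodule.span Γ(Y, U.1) (Set.range (exteriorPower.ιMulti Γ(Y, U.1) n (M := (pO π ⊞ pO π).val.obj (op U.1)))) := by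
        rw [exteriorPower.ιMulti_span]; trivial
      induction hw using Submodule.span_induction with
      | mem w hw => obtain ⟨z, rfl⟩ := hw; exact hg z
      | zero => rwa [map_zero]
      | add a c _ _ h1 h2 => rw [map_add]; exact ha _ _ h1 h2
      | smul c a _ h1 => rw [map_smul]; exact hs _ _ h1
    intro U V hU hV h x
    refine hind U (P := fun x => rs D' h (φ U hU x) = φ V hV (rs D h x)) ?_ ?_ ?_ ?_ x
    · simp only [map_zero, TensorSec.rs_zero]
    · intro a c ha hc; simp only [map_add, TensorSec.rs_add, ha, hc]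
    · intro c a ha; simp only [map_smul, rs_smul, ha]
    · intro z
      obtain ⟨b⟩ := hV.2
      refine ((congrArg (fun w => rs D' h ((β U).symm w))
        ((congrArg (exteriorPower.map n _) ((α U).apply_symm_apply _)).trans
          (exteriorPower.map_apply_ιMulti _ _))).trans (hβ U V h _)).trans (Eq.symm ?_)
      refine (congrArg (φ V hV) (hα U V h z)).trans ?_
      refine congrArg (β V).symm ?_
      refine (congrArg (exteriorPower.map n _) ((α V).apply_symm_apply _)).trans ?_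
      refine (LinearMap.congr_fun (map_pairMap_eq π θ hn b
        ((hU.1.choose_spec.choose_spec).res π θ h) hV.1.choose_spec.choose_spec) _).trans ?_
      refine (exteriorPower.map_apply_ιMulti _ _).trans (congrArg _ (funext fun j => ?_))
      exact (rs_pairMap π h _ _ (z j)).symm
  obtain ⟨ψ, hψ⟩ := BasisHom.exists_hom_of_basis (P := Good π θ r)
    (fun {O y} hy => exists_good π θ hL hM hO hy) φ hφ
  haveI : IsIso ψ := by
    have hbij : ∀ (U : Y.affineOpens), Good π θ r U → Function.Bijective (ψ.app U.1) := fun U hU => by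
      rw [funext (hψ U hU)]
      let T := LinearEquiv.ofBijective (pairMap π U.1 hU.1.choose hU.1.choose_spec.choose)
        (bijective_pairMap π hU.1.choose_spec.choose_spec.1 hU.1.choose_spec.choose_spec.2.1)
      have hm : Function.Bijective (exteriorPower.map n T.toLinearMap) := by
        refine Function.bijective_iff_has_inverse.2 ⟨exteriorPower.map n T.symm.toLinearMap, fun w => ?_, fun w => ?_⟩
        · rw [← LinearMap.comp_apply, ← exteriorPower.map_comp, T.symm_comp, exteriorPower.map_id]; rfl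
        · rw [← LinearMap.comp_apply, ← exteriorPower.map_comp, T.comp_symm, exteriorPower.map_id]; rfl
      exact (β U).symm.bijective.comp (hm.comp (α U).bijective)
    rw [StalkModule.isIso_iff_stalkMapₗ_bijective]
    intro y
    constructor
    · rw [injective_iff_map_eq_zero]
      intro v hv
      obtain ⟨O, hO', x, rfl⟩ := TopCat.Presheaf.exists_germ_eq D.presheaf v
      rw [StalkModule.stalkMapₗ_germ] at hv
      obtain ⟨O', hO'', i₁, i₂, heq⟩ := TopCat.Presheaf.germ_eq D'.presheaf y hO' hO' _ 0 (hv.trans (map_zero _).symm)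
      obtain ⟨U, hU, hUO, hyU⟩ := exists_good π θ hL hM hO hO''
      have h0 : ψ.app U.1 (rs D (hUO.trans i₁.le) x) = 0 := by
        rw [TensorSec.app_rs, ← rs_rs D' i₁.le hUO, show rs D' i₁.le (ψ.app O x) = 0 from
          heq.trans (map_zero _), TensorSec.rs_zero]
      rw [← TopCat.Presheaf.germ_res_apply D.presheaf (homOfLE (hUO.trans i₁.le)) y hyU x]
      show D.presheaf.germ U.1 y hyU (rs D (hUO.trans i₁.le) x) = 0
      rw [(hbij U hU).1 (h0.trans (map_zero _).symm)]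
      exact map_zero _
    · intro v
      obtain ⟨O, hO', x, rfl⟩ := TopCat.Presheaf.exists_germ_eq D'.presheaf v
      obtain ⟨U, hU, hUO, hyU⟩ := exists_good π θ hL hM hO hO'
      obtain ⟨w, hw⟩ := (hbij U hU).2 (rs D' hUO x)
      refine ⟨D.presheaf.germ U.1 y hyU w, ?_⟩
      rw [StalkModule.stalkMapₗ_germ, hw]
      exact TopCat.Presheaf.germ_res_apply D'.presheaf (homOfLE hUO) y hyU x
  exact ⟨asIso ψ⟩

/-- The push-forward of an invertible module has the rank of `π_* O`. -/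
theorem rank_push [IsNoetherian Y] [ConnectedSpace Y] [IsFinite π] [Flat π] [LocallyOfFinitePresentation π]
    {N : X.Modules} (hN : PicF.IsInvertible N) {r : ℕ} (hO : FlatMod.IsFinLocFreeOfRank r (pO π)) :
    FlatMod.IsFinLocFreeOfRank r ((Scheme.Modules.pushforward π).obj N) := by
  obtain ⟨n, hn⟩ := KAugNil98.Main.exists_rank
    (ResDescend36.Proj.isFinLocFree_pushforward π (TensorMod.LocFree.of_rank (TensorMod.LocFree.of_isInvertible hN)))
  obtain ⟨y⟩ : Nonempty Y := inferInstance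
  obtain ⟨W, e, hyW, he⟩ := NormAmple.Bundle.exists_frame_fibre (π := π) hN y
  obtain ⟨U, hUW, hyU, hb⟩ := KVec.ZeroScheme.exists_basis_nhd (E := pO π) hO (show y ∈ W from hyW)
  obtain ⟨V, hVU, hyV, hc⟩ := KVec.ZeroScheme.exists_basis_nhd (E := (Scheme.Modules.pushforward π).obj N) hn hyU
  obtain ⟨b⟩ := hb V hVU
  obtain ⟨c⟩ := hc V le_rfl
  haveI : Nontrivial Γ(Y, V.1) := NormAmple.FinFreeMain.nontrivial_sections hyV
  let T := LinearEquiv.ofBijective (smulSec π V.1 (rs N (π.preimage_mono (hVU.trans hUW)) e))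
    (bijective_smulSec π (he.res _))
  have : Fintype.card (Fin r) = Fintype.card (Fin n) := Fintype.card_congr ((b.map T).indexEquiv c)
  simp at this
  exact this ▸ hn

end

end Groth.Agent.Lib.IntSh43.DetNorm
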