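import Groth.Agent.Lib.Koszul.Depth
import Mathlib.RingTheory.KrullDimension.Regular
import Mathlib.RingTheory.Flat.Basic
import Mathlib.Algebra.Module.FinitePresentation
import Mathlib.RingTheory.LocalRing.Module

/-!
# Dimension bound from acyclicity of a tensored complex with minimal top differential
-/

set_option autoImplicit false
set_option linter.style.haveILetI false
universe u

open TensorProduct IsLocalRing
open scoped Pointwise

namespace Groth.Agent.Lib.IntSh43.TopDiff

variable {R : Type u} [CommRing R]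

variable (M : Type u) [AddCommGroup M] [Module R M]

/-- A map with image in `m P` kills socle elements. -/
theorem tmul_eq_zero_of_socle [IsLocalRing R] {P : Type u} [AddCommGroup P] [Module R P] {m : M}
    (hm : ∀ a ∈ maximalIdeal R, a • m = 0) {p : P}
    (hp : p ∈ maximalIdeal R • (⊤ : Submodule R P)) : m ⊗ₜ[R] p = 0 := by
  refine Submodule.smul_induction_on hp (fun a ha q _ => ?_) (fun a b ha hb => by
    rw [tmul_add, ha, hb, add_zero])
  rw [tmul_smul, smul_tmul', hm a ha, zero_tmul]

variable {M}

theorem exact_quot {P : Type u} [AddCommGroup P] [Module R P] (b : R) (z : M ⊗[R] P)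
    (hz : (Submodule.mkQ (b • (⊤ : Submodule R M))).rTensor P z = 0) : ∃ w, z = b • w := by
  let f : M →ₗ[R] M := b • LinearMap.id
  have h : Function.Exact f (Submodule.mkQ (b • (⊤ : Submodule R M))) := by
    intro x
    rw [Submodule.mkQ_apply, Submodule.Quotient.mk_eq_zero, Submodule.mem_smul_pointwise_iff_exists]
    exact ⟨fun ⟨y, _, hy⟩ => ⟨y, hy⟩, fun ⟨y, hy⟩ => ⟨y, trivial, hy⟩⟩
  obtain ⟨w, hw⟩ := (rTensor_exact P h (Submodule.mkQ_surjective _) z).1 hz
  refine ⟨w, hw.symm.trans ?_⟩
  show f.rTensor P w = b • w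
  rw [show f.rTensor P = b • (LinearMap.id : M ⊗[R] P →ₗ[R] M ⊗[R] P) from by
    rw [show f = b • LinearMap.id from rfl, LinearMap.rTensor_smul, LinearMap.rTensor_id]]
  rfl

theorem smul_cancel {P : Type u} [AddCommGroup P] [Module R P] [Module.Flat R P] {b : R}
    (hb : IsSMulRegular M b) {x : M ⊗[R] P} (hx : b • x = 0) : x = 0 := by
  have h := Module.Flat.rTensor_preserves_injective_linearMap (M := P) (b • LinearMap.id : M →ₗ[R] M)
    (fun u v huv => hb huv)
  refine h (Eq.trans ?_ (map_zero _).symm)
  rw [LinearMap.rTensor_smul, LinearMap.rTensor_id]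
  exact hx

theorem smul_rTensor_mkQ {P : Type u} [AddCommGroup P] [Module R P] (b : R) (x : M ⊗[R] P) :
    (Submodule.mkQ (b • (⊤ : Submodule R M))).rTensor P (b • x) = 0 := by
  induction x using TensorProduct.induction_on with
  | zero => simp
  | tmul m p =>
    rw [smul_tmul', LinearMap.rTensor_tmul, Submodule.mkQ_apply,
      (Submodule.Quotient.mk_eq_zero _).2 (Submodule.smul_mem_pointwise_smul m b ⊤ Submodule.mem_top), zero_tmul]
  | add a c ha hc => rw [smul_add, map_add, ha, hc, add_zero]

/-- A minimal injection out of a nonzero flat module forces positive depth. -/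
theorem exists_regular [IsNoetherianRing R] [IsLocalRing R] [Module.Finite R M] {P Q : Type u}
    [AddCommGroup P] [Module R P] [Module.Flat R P] [Module.Finite R P] [Nontrivial P]
    [AddCommGroup Q] [Module R Q] (d : P →ₗ[R] Q)
    (hd : ∀ p, d p ∈ maximalIdeal R • (⊤ : Submodule R Q)) (hinj : Function.Injective (d.lTensor M)) :
    ∃ b ∈ maximalIdeal R, IsSMulRegular M b := by
  by_contra hc
  push Not at hc
  obtain ⟨m, hm0, hm⟩ := Koszul.Depth.exists_killed M (maximalIdeal R) hc
  haveI := Module.free_of_flat_of_isLocalRing (R := R) (P := P)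
  obtain ⟨ι, B⟩ := Module.Free.exists_basis R P
  haveI : Nonempty ι := B.index_nonempty
  let i₀ := Classical.arbitrary ι
  have : (m ⊗ₜ[R] B i₀) = 0 := hinj (by
    rw [LinearMap.lTensor_tmul, tmul_eq_zero_of_socle M hm (hd _), map_zero])
  have h2 := congrArg (fun z => TensorProduct.rid R M ((B.coord i₀).lTensor M z)) this
  simp [Module.Basis.coord_apply] at h2
  exact hm0 h2

theorem mem_jacobson [IsLocalRing R] {b : R} (hb : b ∈ maximalIdeal R) :
    b ∈ (Module.annihilator R M).jacobson :=
  Ideal.mem_sInf.2 fun J ⟨_, hJ⟩ => by rw [IsLocalRing.eq_maximalIdeal hJ]; exact hb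

/-- If `M ⊗ (P_{n+1} → ⋯ → P_0)` is exact in positive degrees and the top differential is minimal with
nonzero source, then `dim M ≥ n + 1`. -/
theorem le_supportDim [IsNoetherianRing R] [IsLocalRing R] : ∀ (n : ℕ) (M : Type u) [AddCommGroup M]
    [Module R M] [Module.Finite R M] [Nontrivial M] (P : ℕ → Type u) [∀ i, AddCommGroup (P i)]
    [∀ i, Module R (P i)] [∀ i, Module.Flat R (P i)] [∀ i, Module.Finite R (P i)]
    (d : ∀ i, P (i + 1) →ₗ[R] P i)
    (_ : Nontrivial (P (n + 1)))
    (_ : ∀ p, d n p ∈ maximalIdeal R • (⊤ : Submodule R (P n)))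
    (_ : Function.Injective ((d n).lTensor M))
    (_ : ∀ i < n, Function.Exact ((d (i + 1)).lTensor M) ((d i).lTensor M)),
    ((n + 1 : ℕ) : WithBot ℕ∞) ≤ Module.supportDim R M := by
  intro n
  induction n with
  | zero =>
    intro M _ _ _ _ P _ _ _ _ d hP hd hinj _
    haveI := hP
    obtain ⟨b, hbm, hb⟩ := exists_regular (d 0) hd hinj
    have hj : b ∈ (Module.annihilator R M).jacobson := mem_jacobson hbm
    rw [← Module.supportDim_quotSMulTop_succ_eq_supportDim_mem_jacobson hb hj]
    haveI : Nontrivial (QuotSMulTop b M) := Submodule.Quotient.nontrivial_iff.mpr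
      (Submodule.top_ne_pointwise_smul_of_mem_jacobson_annihilator hj).symm
    have h0 : (0 : WithBot ℕ∞) ≤ Module.supportDim R (QuotSMulTop b M) :=
      Order.LTSeries.length_le_krullDim (α := Module.support R (QuotSMulTop b M))
        ⟨0, fun _ => ⟨_, (Module.nonempty_support_of_nontrivial).some_mem⟩, fun i => i.elim0⟩
    simpa using add_le_add h0 (le_refl (1 : WithBot ℕ∞))
  | succ n ih =>
    intro M _ _ _ _ P _ _ _ _ d hP hd hinj hex
    haveI := hP
    obtain ⟨b, hbm, hb⟩ := exists_regular (d (n + 1)) hd hinj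
    have hj : b ∈ (Module.annihilator R M).jacobson := mem_jacobson hbm
    rw [← Module.supportDim_quotSMulTop_succ_eq_supportDim_mem_jacobson hb hj]
    haveI : Nontrivial (QuotSMulTop b M) := Submodule.Quotient.nontrivial_iff.mpr
      (Submodule.top_ne_pointwise_smul_of_mem_jacobson_annihilator hj).symm
    let q : M →ₗ[R] QuotSMulTop b M := Submodule.mkQ _
    have hq : ∀ i, Function.Surjective (q.rTensor (P i)) := fun i =>
      LinearMap.rTensor_surjective _ (Submodule.mkQ_surjective _)
    have hcomm : ∀ i (x : M ⊗[R] P (i + 1)),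
        (d i).lTensor _ (q.rTensor _ x) = q.rTensor _ ((d i).lTensor M x) := fun i x => by
      rw [← LinearMap.comp_apply, LinearMap.lTensor_comp_rTensor, ← LinearMap.rTensor_comp_lTensor]; rfl
    have h2 := ih (QuotSMulTop b M) (fun i => P (i + 1)) (fun i => d (i + 1)) hP hd ?_ ?_
    · have := add_le_add h2 (le_refl (1 : WithBot ℕ∞))
      push_cast at this ⊢
      exact this
    · rw [injective_iff_map_eq_zero]
      intro z hz
      obtain ⟨y, rfl⟩ := hq _ z
      rw [hcomm] at hz
      obtain ⟨w, hw⟩ := exact_quot b _ hz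
      have hw0 : (d n).lTensor M w = 0 := smul_cancel hb (by
        rw [← map_smul, ← hw, (hex n n.lt_succ_self).apply_apply_eq_zero])
      obtain ⟨u, rfl⟩ := (hex n n.lt_succ_self w).1 hw0
      rw [← map_smul] at hw
      rw [show y = b • u from hinj hw]
      exact smul_rTensor_mkQ b u
    · intro i hi z
      refine ⟨fun hz => ?_, fun ⟨u, hu⟩ => ?_⟩
      · obtain ⟨y, rfl⟩ := hq _ z
        rw [hcomm] at hz
        obtain ⟨w, hw⟩ := exact_quot b _ hz
        have hw0 : (d i).lTensor M w = 0 := smul_cancel hb (by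
          rw [← map_smul, ← hw, (hex i (by omega)).apply_apply_eq_zero])
        obtain ⟨u, rfl⟩ := (hex i (by omega) w).1 hw0
        obtain ⟨v, hv⟩ := (hex (i + 1) (by omega) (y - b • u)).1 (by rw [map_sub, hw, map_smul, sub_self])
        refine ⟨q.rTensor _ v, ?_⟩
        rw [hcomm, hv, map_sub, sub_eq_self]
        exact smul_rTensor_mkQ b u
      · obtain ⟨u, rfl⟩ := hq _ u
        rw [← hu, hcomm, hcomm, (hex (i + 1) (by omega)).apply_apply_eq_zero, map_zero]

end Groth.Agent.Lib.IntSh43.TopDiff
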