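import Groth.Agent.Lib.KVec.RelVanish
import Groth.Agent.Lib.KRes.KSub
import Groth.Agent.Lib.Modules.Support
import Groth.Agent.S0795
import Groth.Agent.Lib.Devissage.Localization
import Groth.Prelude.Def_KRR
import Groth.Prelude.Def_KDet2

/-!
# Euler characteristic of an acyclic complex, and direct images of modules finite over a point
-/

set_option autoImplicit false
set_option linter.style.haveILetI false
universe u

open CategoryTheory CategoryTheory.Limits AlgebraicGeometry TopologicalSpace

namespace Groth.Agent.Lib.IntSh43.Vanish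

open Groth.Agent Groth.Agent.Lib

noncomputable section

variable {X Y : Scheme.{u}}

/-- A complex of coherent modules exact in positive degrees has the class of its `H_0`. -/
theorem euler (K : ChainComplex X.Modules ℕ) (hK : ∀ q, Coh.IsCoh (K.X q))
    (hex : ∀ q, IsZero (K.homology (q + 1))) (m : ℕ) :
    ∑ q ∈ Finset.range m, (-1 : ℤ) ^ q • KDet.clc X (K.X q) +
        (-1 : ℤ) ^ m • KDet.clc X (cokernel (K.d (m + 1) m)) =
      KDet.clc X (cokernel (K.d 1 0)) := by
  have hQ : ∀ q, Coh.IsCoh (cokernel (K.d (q + 1) q)) := fun q =>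
    CohBasics.Closure.isCoh_cokernel _ (hK (q + 1)).1 (hK q)
  induction m with
  | zero => simp
  | succ m ih =>
    rw [← ih, Finset.sum_range_succ, add_assoc]
    congr 1
    have hS : (K.sc' (m + 2) (m + 1) m).Exact := by
      rw [← K.exactAt_iff' _ _ _ (by simp) (by simp), HomologicalComplex.exactAt_iff_isZero_homology]
      exact hex m
    let φ : cokernel (K.d (m + 2) (m + 1)) ⟶ K.X m :=
      cokernel.desc _ (K.d (m + 1) m) (K.d_comp_d _ _ _)
    haveI : Mono φ := hS.mono_cokernelDesc
    let T : ShortComplex X.Modules := ShortComplex.mk φ (cokernel.π φ) (cokernel.condition _)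
    have hT : T.ShortExact := ShortComplex.ShortExact.mk' (ShortComplex.exact_cokernel φ) inferInstance
      inferInstance
    let e : cokernel φ ≅ cokernel (K.d (m + 1) m) :=
      (cokernelEpiComp (cokernel.π (K.d (m + 2) (m + 1))) φ).symm ≪≫
        cokernelIsoOfEq (cokernel.π_desc _ _ _)
    have h3 : Coh.IsCoh (cokernel φ) := CohBasics.Closure.isCoh_of_iso e.symm (hQ m)
    have h := KRes.KSub.rel (P := fun M : X.Modules => Coh.IsCoh M) hT (hQ (m + 1)) (hK m) h3
    have hcl : KDet.clc X (cokernel φ) = KDet.clc X (cokernel (K.d (m + 1) m)) :=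
      Devissage.Localization.clSub_congr e h3 (hQ m) (CohBasics.Closure.isCoh_cokernel _ h3.1 h3)
    rw [show KDet.clc X (K.X m) = KDet.clc X (cokernel (K.d (m + 2) (m + 1))) + KDet.clc X (cokernel φ) from h,
      hcl, pow_succ, mul_neg_one, neg_smul, smul_add]
    abel

variable (π : X ⟶ Y) [IsProper π]

/-- The higher direct images of `G` vanish at a point over which its support has no specializations. -/
theorem subsingleton_stalk [HasInjectiveResolutions X.Modules] {G : X.Modules}
    (hG : Coh.IsCoh G) (y : Y)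
    (hy : ∀ a b : X, a ∈ CohB1.support G → b ∈ CohB1.support G → π.base a = y → π.base b = y → a ⤳ b → a = b)
    {p : ℕ} (hp : 0 < p) :
    Subsingleton (((Coh.Rpush π p).obj G).presheaf.stalk y) := by
  obtain ⟨J, -, hiso, -, hsupp⟩ := Groth.Agent.S9377.result X G hG.1 hG.2
  let ι := J.subschemeι
  haveI := hiso
  let H := (Scheme.Modules.pullback ι).obj G
  haveI := hG.1
  haveI hH : Coh.IsQCoh H := QCoh.Pullback.isQCoh_pullback ι G
  let e : G ≅ (Coh.push ι).obj H := asIso ((Scheme.Modules.pullbackPushforwardAdjunction ι).unit.app G)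
  have hr : Set.range ι = CohB1.support G := by
    rw [Scheme.IdealSheafData.range_subschemeι, hsupp]
  have hd : topologicalKrullDim ↥((ι ≫ π).fiber y) ≤ ((0 : ℕ) : WithBot ℕ∞) := by
    refine iSup_le fun s => ?_
    by_contra hlt
    have hl : 0 < s.length := Nat.pos_of_ne_zero fun h => hlt (by rw [h])
    have hs : s ⟨0, by omega⟩ < s ⟨1, by omega⟩ := s.step ⟨0, hl⟩
    obtain ⟨a, ha⟩ := QuasiSober.sober (s ⟨1, by omega⟩).isIrreducible (s ⟨1, by omega⟩).isClosed
    obtain ⟨b, hb⟩ := QuasiSober.sober (s ⟨0, by omega⟩).isIrreducible (s ⟨0, by omega⟩).isClosed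
    have hab : a ⤳ b := ha.specializes (hs.le hb.mem)
    have hm : ∀ z, ι ((ι ≫ π).fiberι y z) ∈ CohB1.support G ∧ π.base (ι ((ι ≫ π).fiberι y z)) = y := fun z =>
      ⟨hr.le ⟨_, rfl⟩, by
        have := ((ι ≫ π).range_fiberι y).le ⟨z, rfl⟩
        simpa using this⟩
    have hj := ι.isClosedEmbedding.isEmbedding.comp ((ι ≫ π).fiberι y).isEmbedding
    have : a = b := hj.injective
      (hy _ _ (hm a).1 (hm b).1 (hm a).2 (hm b).2 (hab.map hj.continuous))
    subst this
    exact hs.ne (IrreducibleCloseds.ext (hb.def.symm.trans ha.def))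
  have hz := Groth.Agent.S7411.result (ι ≫ π) y 0 hd H p hp
  obtain ⟨i⟩ := Groth.Agent.S4456.result ι π H p
  obtain ⟨j⟩ := Groth.Agent.S11319.result π G p
  let Φ := sheafToPresheaf (Opens.grothendieckTopology Y) AddCommGrpCat.{u} ⋙
    TopCat.Presheaf.stalkFunctor AddCommGrpCat.{u} y
  have i' := Φ.mapIso (j ≪≫ (Coh.RpushAb π p).mapIso ((SheafOfModules.toSheaf _).mapIso e) ≪≫ i)
  exact AddCommGrpCat.subsingleton_of_isZero (hz.of_iso i')

/-- Euler characteristic of the direct images versus the direct image, modulo codimension two. -/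
theorem push_sub_mem_coniv [IsLocallyNoetherian Y] [HasInjectiveResolutions X.Modules] {N : ℕ}
    {gc : SGA6.Kcoh X →+ SGA6.Kcoh Y} (hgc : KRR.IsPushCoh π N gc) {G : X.Modules} (hG : Coh.IsCoh G)
    (hy : ∀ y : Y, ringKrullDim (Y.presheaf.stalk y) ≤ 1 → ∀ a b : X, a ∈ CohB1.support G →
      b ∈ CohB1.support G → π.base a = y → π.base b = y → a ⤳ b → a = b) :
    KDet.clc Y ((Coh.push π).obj G) - gc (KDet.clc X G) ∈ KDet.coniv Y 2 := by
  haveI : IsLocallyNoetherian X := LocallyOfFiniteType.isLocallyNoetherian π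
  haveI := hG.1
  haveI := hG.2
  have hc : ∀ p, Coh.IsCoh ((Coh.Rpush π p).obj G) := fun p => Groth.Agent.S0795.result π G hG
    ⟨Modules.Support.isClosed_support G, inferInstance⟩ p
  rw [show gc (KDet.clc X G) = _ from hgc.2 G hG, Finset.sum_range_succ', pow_zero, one_smul]
  let e0 := ((Scheme.Modules.pushforward π).rightDerivedZeroIsoSelf).app G
  have h0 : Coh.IsCoh ((Coh.push π).obj G) := CohBasics.Closure.isCoh_of_iso e0 (hc 0)
  rw [show KZero.clSub (fun M : Y.Modules => Coh.IsCoh M) ((Coh.Rpush π 0).obj G) =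
    KDet.clc Y ((Coh.push π).obj G) from Devissage.Localization.clSub_congr e0 (hc 0) h0
      (CohBasics.Closure.isCoh_cokernel _ (hc 0).1 (hc 0))]
  rw [sub_add_eq_sub_sub_swap, sub_self, zero_sub]
  refine neg_mem (sum_mem fun i _ => zsmul_mem ?_ _)
  refine AddSubgroup.subset_closure ⟨_, hc (i + 1), fun y hys => ?_, rfl⟩
  by_contra hlt
  refine hys (subsingleton_stalk π hG y (hy y ?_) i.succ_pos)
  rw [not_le] at hlt
  generalize ringKrullDim (Y.presheaf.stalk y) = w at hlt ⊢
  cases w with
  | bot => exact bot_le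
  | coe a =>
    have : (a : WithBot ℕ∞) < ((2 : ℕ∞) : WithBot ℕ∞) := hlt
    rw [WithBot.coe_lt_coe] at this
    exact WithBot.coe_le_coe.2 (Order.le_of_lt_succ (lt_of_lt_of_eq this (by rw [Order.succ_eq_add_one, one_add_one_eq_two])))

end

end Groth.Agent.Lib.IntSh43.Vanish
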